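import Groth.Agent.SchTorsor.Basic
import Groth.Prelude.Def_ActBC

/-!
# The trivial class
-/

universe u

open CategoryTheory MonoidalCategory CartesianMonoidalCategory MonObj GrpObj AlgebraicGeometry

namespace Groth.Agent.H9TorsCl

variable {S : Scheme.{u}} {G : Over S} [GrpObj G]

theorem cl_eq_one_iff {K : Precoverage Scheme.{u}} [K.HasIsos] (hK : K ≤ Scheme.fpqcPrecoverage)
    (P : NonAbH1.TorsorSch G K) : P.cl = 1 ↔ NonAbH1.HasSectionOver P.X (𝟙 S) := by
  constructor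
  · intro h
    let f : NonAbH1.H1Sch G K → Prop :=
      Quot.lift (fun Q => NonAbH1.HasSectionOver Q.X (𝟙 S)) fun Q Q' ⟨e⟩ => propext
        ⟨fun ⟨s, hs⟩ => ⟨s ≫ e.iso.hom.left, by rw [Category.assoc, Over.w e.iso.hom, hs]⟩,
          fun ⟨s, hs⟩ => ⟨s ≫ e.iso.inv.left, by rw [Category.assoc, Over.w e.iso.inv, hs]⟩⟩
    have : f P.cl := by
      rw [h]
      exact ⟨η[G].left, Over.w η[G]⟩
    exact this
  · rintro ⟨s, hs⟩
    let σ : 𝟙_ (Over S) ⟶ P.X := Over.homMk s hs
    let m : G ⟶ P.X := lift (𝟙 G) (toUnit G ≫ σ) ≫ P.act.act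
    have ht := NonAbH1.isTorsorFor_trivialAction G K
    have ht' : NonAbH1.IsTorsorFor Scheme.fpqcPrecoverage (NonAbH1.trivialAction G) :=
      ⟨ht.1, ht.2.choose, hK _ ht.2.choose_spec.1, ht.2.choose_spec.2⟩
    have hm : (NonAbH1.trivialAction G).act ≫ m = (G ◁ m) ≫ P.act.act := by
      refine AlgGrp.Action.hom_ext_lift₂ fun T g h => ?_
      have key : ∀ g : T ⟶ G, g ≫ m = lift g (toUnit T ≫ σ) ≫ P.act.act := fun g => by
        rw [← Category.assoc, comp_lift, Category.comp_id, ← Category.assoc g, toUnit_unique (g ≫ toUnit G) (toUnit T)]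
      rw [lift_whiskerLeft_assoc, key, ← AlgGrp.Action.lift_mul_act, ← key, ← Category.assoc]
      rfl
    haveI := SchTorsor.isIso_of_equivariant ht' P.isTorsor.1 m hm
    refine Quot.sound ⟨⟨(asIso m).symm, ?_⟩⟩
    simp only [Iso.symm_hom, asIso_inv]
    rw [IsIso.comp_inv_eq, Category.assoc, hm, ← Category.assoc, ← MonoidalCategory.whiskerLeft_comp, IsIso.inv_hom_id,
      MonoidalCategory.whiskerLeft_id, Category.id_comp]

end Groth.Agent.H9TorsCl
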